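import Mathlib.RepresentationTheory.Basic
import Mathlib.LinearAlgebra.TensorProduct.Basis
import Mathlib.Data.ZMod.Basic
import Mathlib.Algebra.CharP.Two

/-! For a permutation representation over `F₂` the map from symmetric to alternating tensors splits. -/

set_option autoImplicit false
universe u v w
open scoped TensorProduct

namespace Groth.Agent.SymSqPerm

theorem exists_stable_complement (G : Type u) [Group G] (V : Type v)
    [AddCommGroup V] [Module (ZMod 2) V] (ρ : Representation (ZMod 2) G V)
    (ι : Type w) (b : Module.Basis ι (ZMod 2) V) (hb : ∀ g : G, ∀ i : ι, ∃ j : ι, ρ g (b i) = b j) :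
    ∃ W : Submodule (ZMod 2) (V ⊗[ZMod 2] V),
      (∀ g : G, ∀ w ∈ W, ρ.tprod ρ g w ∈ W) ∧
      W ⊓ Submodule.span (ZMod 2) (Set.range fun v : V => v ⊗ₜ[ZMod 2] v) =
        Submodule.span (ZMod 2) (Set.range fun p : V × V => p.1 ⊗ₜ[ZMod 2] p.2 + p.2 ⊗ₜ[ZMod 2] p.1) ∧
      W ⊔ Submodule.span (ZMod 2) (Set.range fun v : V => v ⊗ₜ[ZMod 2] v) = ⊤ := by
  classical
  let B := b.tensorProduct b
  set D := Submodule.span (ZMod 2) (Set.range fun v : V => v ⊗ₜ[ZMod 2] v) with hD
  set A := Submodule.span (ZMod 2)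
    (Set.range fun p : V × V => p.1 ⊗ₜ[ZMod 2] p.2 + p.2 ⊗ₜ[ZMod 2] p.1) with hA
  let W := Submodule.span (ZMod 2) (B '' {q : ι × ι | q.1 ≠ q.2})
  have hmemW : ∀ w, w ∈ W ↔ ∀ i, B.repr w (i, i) = 0 := by
    intro w
    rw [Module.Basis.mem_span_image]
    constructor
    · intro h i
      by_contra hne
      exact h (Finsupp.mem_support_iff.2 hne) rfl
    · intro h q hq he
      obtain ⟨i, j⟩ := q
      dsimp only at he
      subst he
      exact Finsupp.mem_support_iff.1 hq (h i)
  have hB : ∀ q : ι × ι, B q = b q.1 ⊗ₜ[ZMod 2] b q.2 := fun q => b.tensorProduct_apply' b q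
  have hAD : A ≤ D := by
    rw [hA, Submodule.span_le]
    rintro _ ⟨⟨v, w⟩, rfl⟩
    have h : v ⊗ₜ[ZMod 2] w + w ⊗ₜ[ZMod 2] v = (v + w) ⊗ₜ[ZMod 2] (v + w) - v ⊗ₜ[ZMod 2] v - w ⊗ₜ[ZMod 2] w := by
      rw [TensorProduct.add_tmul, TensorProduct.tmul_add, TensorProduct.tmul_add]
      abel
    simp only [SetLike.mem_coe]
    rw [h]
    exact sub_mem (sub_mem (Submodule.subset_span ⟨_, rfl⟩) (Submodule.subset_span ⟨_, rfl⟩))
      (Submodule.subset_span ⟨_, rfl⟩)
  have hAW : A ≤ W := by
    rw [hA, Submodule.span_le]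
    rintro _ ⟨⟨v, w⟩, rfl⟩
    rw [SetLike.mem_coe, hmemW]
    intro i
    simp only [B, map_add, Finsupp.add_apply, Module.Basis.tensorProduct_repr_tmul_apply, smul_eq_mul]
    rw [mul_comm (b.repr w i)]
    exact CharTwo.add_self_eq_zero _
  -- every diagonal tensor is a diagonal combination modulo `A`
  have hdiag : ∀ x ∈ D, ∃ c : ι →₀ ZMod 2, x - Finsupp.linearCombination (ZMod 2) (fun i => B (i, i)) c ∈ A := by
    intro x hx
    induction hx using Submodule.span_induction with
    | mem x hx =>
      obtain ⟨v, rfl⟩ := hx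
      dsimp only
      suffices ∀ v : V, v ∈ Submodule.span (ZMod 2) (Set.range b) →
          ∃ c : ι →₀ ZMod 2, v ⊗ₜ[ZMod 2] v - Finsupp.linearCombination (ZMod 2) (fun i => B (i, i)) c ∈ A from
        this v (by rw [b.span_eq]; trivial)
      intro v hv
      induction hv using Submodule.span_induction with
      | mem v hv =>
        obtain ⟨i, rfl⟩ := hv
        exact ⟨Finsupp.single i 1, by simp [hB]⟩
      | zero => exact ⟨0, by simp⟩
      | add u w _ _ hu hw =>
        obtain ⟨c, hc⟩ := hu
        obtain ⟨d, hd⟩ := hw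
        refine ⟨c + d, ?_⟩
        have h : (u + w) ⊗ₜ[ZMod 2] (u + w) -
            Finsupp.linearCombination (ZMod 2) (fun i => B (i, i)) (c + d) =
            (u ⊗ₜ[ZMod 2] u - Finsupp.linearCombination (ZMod 2) (fun i => B (i, i)) c) +
            (w ⊗ₜ[ZMod 2] w - Finsupp.linearCombination (ZMod 2) (fun i => B (i, i)) d) +
            (u ⊗ₜ[ZMod 2] w + w ⊗ₜ[ZMod 2] u) := by
          rw [TensorProduct.add_tmul, TensorProduct.tmul_add, TensorProduct.tmul_add, map_add]
          abel
        rw [h]
        exact add_mem (add_mem hc hd) (Submodule.subset_span ⟨(u, w), rfl⟩)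
      | smul a u _ hu =>
        obtain ⟨c, hc⟩ := hu
        refine ⟨(a * a) • c, ?_⟩
        rw [map_smul, TensorProduct.smul_tmul_smul, ← smul_sub]
        exact A.smul_mem _ hc
    | zero => exact ⟨0, by simp⟩
    | add u w _ _ hu hw =>
      obtain ⟨c, hc⟩ := hu
      obtain ⟨d, hd⟩ := hw
      exact ⟨c + d, by rw [map_add, add_sub_add_comm]; exact add_mem hc hd⟩
    | smul a u _ hu =>
      obtain ⟨c, hc⟩ := hu
      exact ⟨a • c, by rw [map_smul, ← smul_sub]; exact A.smul_mem _ hc⟩
  refine ⟨W, ?_, ?_, ?_⟩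
  · intro g w hw
    induction hw using Submodule.span_induction with
    | mem w hw =>
      obtain ⟨⟨i, j⟩, hij, rfl⟩ := hw
      obtain ⟨i', hi'⟩ := hb g i
      obtain ⟨j', hj'⟩ := hb g j
      refine Submodule.subset_span ⟨(i', j'), ?_, ?_⟩
      · intro he
        dsimp only at he
        subst he
        have h := congrArg (ρ g⁻¹) (hi'.trans hj'.symm)
        simp only [← Module.End.mul_apply, ← map_mul, inv_mul_cancel, map_one, Module.End.one_apply] at h
        exact hij (b.injective h)
      · rw [hB, hB, Representation.tprod_apply, TensorProduct.map_tmul, hi', hj']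
    | zero => simp
    | add u w _ _ hu hw => rw [map_add]; exact add_mem hu hw
    | smul a u _ hu => rw [map_smul]; exact W.smul_mem _ hu
  · refine le_antisymm (fun x hx => ?_) (le_inf hAW hAD)
    obtain ⟨hxW, hxD⟩ := hx
    obtain ⟨c, hc⟩ := hdiag x hxD
    have hc0 : c = 0 := by
      ext i
      have h := (hmemW _).1 (hAW hc) i
      rw [map_sub, Finsupp.sub_apply, (hmemW x).1 hxW i, zero_sub, neg_eq_zero] at h
      have h2 : ∀ d : ι →₀ ZMod 2,
          B.repr (Finsupp.linearCombination (ZMod 2) (fun i => B (i, i)) d) (i, i) = d i := by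
        intro d
        induction d using Finsupp.induction_linear with
        | zero => simp
        | add f g hf hg => rw [map_add, map_add, Finsupp.add_apply, hf, hg, Finsupp.add_apply]
        | single a r =>
          rw [Finsupp.linearCombination_single, map_smul, Finsupp.smul_apply, B.repr_self,
            Finsupp.single_apply, Finsupp.single_apply]
          by_cases hai : a = i <;> simp [hai]
      rw [h2] at h
      simpa using h
    rwa [hc0, map_zero, sub_zero] at hc
  · rw [eq_top_iff, ← B.span_eq, Submodule.span_le]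
    rintro _ ⟨⟨i, j⟩, rfl⟩
    by_cases hij : i = j
    · subst hij
      refine Submodule.mem_sup_right ?_
      rw [hB]
      exact Submodule.subset_span ⟨_, rfl⟩
    · exact Submodule.mem_sup_left (Submodule.subset_span ⟨(i, j), hij, rfl⟩)

end Groth.Agent.SymSqPerm
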